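import Groth.Prelude.Def_CohB1
import Groth.Prelude.Def_PicF2
import Groth.Prelude.Def_Pi1
import Groth.Agent.WDivLib.ProjChart
import Groth.Agent.Props.AmpleTwist
import Groth.Agent.Props.GenPull
import Groth.Agent.AmpleLib.Functorial
import Groth.Agent.AmpleLib.GenIso
import Groth.Agent.NormNormal.Rel
import Groth.Agent.S9675
import Groth.Agent.S0566
import Groth.Agent.ProjProper.Basic
import Groth.Agent.ZeroSchemeLib.Basic
import Groth.Agent.CohAff.ResOps
import Groth.Agent.BCPoint.DeltaLe
import Mathlib.AlgebraicGeometry.ZariskisMainTheorem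

/-!
# A normal compactification of an affine variety with ample boundary
-/

set_option autoImplicit false
set_option linter.style.haveILetI false

universe u

open CategoryTheory Limits AlgebraicGeometry TopologicalSpace Opposite

noncomputable section

namespace Groth.Agent.AffCompl47

/-- A dominant morphism whose corestriction to an open `W` is universally closed fills up the
preimage of `W`. -/
theorem preimage_eq_range {U Γ X : Scheme.{u}} (j : U ⟶ Γ) (p : Γ ⟶ X) [IsSeparated p]
    [IsDominant j] (W : X.Opens) (e : U ⟶ W) [UniversallyClosed e] (h : e ≫ W.ι = j ≫ p) :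
    p.base ⁻¹' (W : Set X) = Set.range j.base := by
  have hsub : Set.range j.base ⊆ p.base ⁻¹' (W : Set X) := by
    rintro _ ⟨u, rfl⟩
    show p.base (j.base u) ∈ (W : Set X)
    rw [← Scheme.Hom.comp_apply, ← h, Scheme.Hom.comp_apply]
    exact (e.base u).2
  let e' : U ⟶ p ⁻¹ᵁ W := IsOpenImmersion.lift (p ⁻¹ᵁ W).ι j (by simpa using hsub)
  have he' : e' ≫ (p ⁻¹ᵁ W).ι = j := IsOpenImmersion.lift_fac _ _ _
  have he2 : e' ≫ (p ∣_ W) = e := by
    rw [← cancel_mono W.ι, Category.assoc, morphismRestrict_ι, reassoc_of% he', h]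
  haveI : IsSeparated (p ∣_ W) := IsZariskiLocalAtTarget.restrict ‹_› W
  haveI : UniversallyClosed (e' ≫ (p ∣_ W)) := he2 ▸ ‹_›
  haveI : UniversallyClosed e' := UniversallyClosed.of_comp_of_isSeparated e' (p ∣_ W)
  refine Set.Subset.antisymm (fun g hg => ?_) hsub
  have hd : DenseRange e'.base := by
    have h1 : Dense ((p ⁻¹ᵁ W).ι.base ⁻¹' Set.range j.base) :=
      j.denseRange.preimage (p ⁻¹ᵁ W).ι.isOpenEmbedding.isOpenMap
    refine h1.mono ?_
    rintro z ⟨u, hu⟩
    refine ⟨u, (p ⁻¹ᵁ W).ι.isOpenEmbedding.injective ?_⟩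
    rw [← Scheme.Hom.comp_apply, he', hu]
  have hsurj : Set.range e'.base = Set.univ :=
    e'.isClosedMap.isClosed_range.closure_eq.symm.trans hd.closure_range
  obtain ⟨u, hu⟩ : (⟨g, hg⟩ : ↥(p ⁻¹ᵁ W)) ∈ Set.range e'.base := hsurj.symm ▸ trivial
  refine ⟨u, ?_⟩
  have := congr($(he').base u)
  rw [← this, Scheme.Hom.comp_apply, hu]
  rfl

/-- The support of the zero scheme is the complement of the locus where the section generates. -/
theorem support_zeroScheme {X : Scheme.{u}} {L : X.Modules} (hL : PicF.IsInvertible L)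
    (s : Coh.structureModule X ⟶ L) :
    ((PicF2.zeroScheme L s).support : Set X) = ((CohB1.genLocus L s : X.Opens) : Set X)ᶜ := by
  open Groth.Agent.QCoh Groth.Agent.Props.GenLocus in
  ext x
  obtain ⟨W, e, hxW, he⟩ := exists_isGen hL x
  obtain ⟨V, hV, hxV, hle⟩ := exists_isAffineOpen_mem_and_subset (show x ∈ W from hxW)
  have he' := he.restrict (show V ≤ W from hle)
  obtain ⟨f, hf, -⟩ := he'.exists_eq le_rfl (sec s V)
  rw [res_self] at hf
  have hI := ZeroSchemeLib.zeroScheme_ideal_eq_span hL s ⟨V, hV⟩ he' (f := f) hf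
  have h1 : x ∈ (PicF2.zeroScheme L s).support ↔
      x ∈ X.zeroLocus (U := V) ((PicF2.zeroScheme L s).ideal ⟨V, hV⟩) :=
    Scheme.IdealSheafData.mem_support_iff_of_mem (U := ⟨V, hV⟩) hxV
  rw [SetLike.mem_coe, h1, hI, Scheme.zeroLocus_span, Scheme.zeroLocus_singleton,
    ← genLocus_inf he' s hf]
  simp [hxV]

/-- A section of an invertible module generating somewhere on an integral scheme is a
monomorphism. -/
theorem mono_of_genLocus {X : Scheme.{u}} [IsIntegral X] {L : X.Modules} (hL : PicF.IsInvertible L)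
    (s : Coh.structureModule X ⟶ L) {x₀ : X} (hx₀ : x₀ ∈ CohB1.genLocus L s) : Mono s := by
  open Groth.Agent.QCoh Groth.Agent.Props.GenLocus in
  refine Groth.Agent.CohAff.mono_of_app_injective s fun O => ?_
  intro a b hab
  have hab' : (show Γ(X, O) from a) • sec s O = (show Γ(X, O) from b) • sec s O := by
    rw [← app_eq s O, ← app_eq s O]; exact hab
  refine TopCat.Sheaf.eq_of_locally_eq' X.sheaf
    (fun V : {V : X.Opens // V ≤ O ∧ ∃ e, IsGen L V e} => V.1) O
    (fun V => homOfLE V.2.1) (fun x hx => ?_) a b fun V => ?_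
  · obtain ⟨W, e, hxW, he⟩ := exists_isGen hL x
    exact Opens.mem_iSup.mpr ⟨⟨W ⊓ O, inf_le_right, _, he.restrict inf_le_left⟩, hxW, hx⟩
  · obtain ⟨V, hVO, e, he⟩ := V
    rcases isEmpty_or_nonempty V with hV | hV
    · haveI := hV
      haveI : Subsingleton Γ(X, V) := by
        have : V = ⊥ := eq_bot_iff.mpr fun z hz => (hV.false ⟨z, hz⟩).elim
        subst this; exact CommRingCat.subsingleton_of_isTerminal X.sheaf.isTerminalOfEmpty
      exact Subsingleton.elim (α := Γ(X, V)) _ _
    obtain ⟨f, hf, -⟩ := he.exists_eq le_rfl (sec s V)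
    rw [res_self] at hf
    have hf0 : f ≠ 0 := by
      rintro rfl
      have h2 := genLocus_inf he s hf
      rw [Scheme.basicOpen_zero] at h2
      have h3 : (((CohB1.genLocus L s ⊓ V : X.Opens) : Set X)).Nonempty :=
        nonempty_preirreducible_inter (CohB1.genLocus L s).2 V.2 ⟨x₀, hx₀⟩
          ⟨hV.some.1, hV.some.2⟩
      rw [h2] at h3
      exact h3.ne_empty rfl
    have h1 := congrArg (res L hVO) hab'
    rw [res_smul, res_smul, sec_res, hf, smul_smul, smul_smul] at h1
    have h2 : rres hVO a * f = rres hVO b * f := he.injective le_rfl (by rw [res_self]; exact h1)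
    haveI := hV
    exact mul_right_cancel₀ (M₀ := Γ(X, V)) hf0 h2

/-- An affine normal variety is an open subscheme of a normal proper variety whose boundary is
the zero scheme of a section of an ample module. -/
theorem exists_compactification {k : Type u} [Field k] {U : Scheme.{u}} [IsAffine U] [IsIntegral U]
    (hU : Pi1.IsNormalScheme U) (π : U ⟶ Spec (CommRingCat.of k)) [LocallyOfFiniteType π] :
    ∃ (Y : Scheme.{u}) (q : Y ⟶ Spec (CommRingCat.of k)) (j : U ⟶ Y) (L : Y.Modules)
      (s : Coh.structureModule Y ⟶ L),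
      IsProper q ∧ IsOpenImmersion j ∧ IsDominant j ∧ j ≫ q = π ∧ IsIntegral Y ∧
        Pi1.IsNormalScheme Y ∧ CohB1.IsAmple L ∧ Mono s ∧
        ((PicF2.zeroScheme L s).support : Set Y) = (Set.range j.base)ᶜ := by
  let φ : CommRingCat.of k ⟶ Γ(U, ⊤) := (Scheme.ΓSpecIso (CommRingCat.of k)).inv ≫ π.appTop
  have hφ : φ.hom.FiniteType := by
    rw [CommRingCat.hom_comp]
    refine RingHom.FiniteType.comp ((HasRingHomProperty.iff_of_isAffine
      (P := @LocallyOfFiniteType)).1 inferInstance) ?_
    exact RingHom.FiniteType.of_surjective _ (Scheme.ΓSpecIso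
      (CommRingCat.of k)).symm.commRingCatIsoToRingEquiv.surjective
  letI : Algebra k Γ(U, ⊤) := φ.hom.toAlgebra
  haveI : Algebra.FiniteType k Γ(U, ⊤) := hφ
  obtain ⟨N, g, hg⟩ := Algebra.FiniteType.iff_quotient_mvPolynomial''.mp ‹_›
  let g' : MvPolynomial (ULift.{u} (Fin N)) k →ₐ[k] Γ(U, ⊤) :=
    g.comp (MvPolynomial.renameEquiv k Equiv.ulift).toAlgHom
  have hg' : Function.Surjective g' := hg.comp (MvPolynomial.renameEquiv k Equiv.ulift).surjective
  let i : U ⟶ 𝔸(ULift.{u} (Fin N); Spec (CommRingCat.of k)) :=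
    U.isoSpec.hom ≫ Spec.map (CommRingCat.ofHom g'.toRingHom) ≫
      (AffineSpace.SpecIso (ULift.{u} (Fin N)) (CommRingCat.of k)).inv
  haveI : IsClosedImmersion (Spec.map (CommRingCat.ofHom g'.toRingHom)) :=
    IsClosedImmersion.spec_of_surjective _ hg'
  haveI : IsClosedImmersion i := by unfold i; infer_instance
  let c := WDivLib.projChart N k
  have hif : i ≫ c ≫ CohB1.ProjSpace.toSpec N k = π := by
    rw [WDivLib.projChart_over]
    have h1 : CommRingCat.ofHom (MvPolynomial.C : k →+* MvPolynomial (ULift.{u} (Fin N)) k) ≫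
        CommRingCat.ofHom g'.toRingHom = φ :=
      CommRingCat.hom_ext (RingHom.ext fun r => g'.commutes r)
    unfold i
    rw [Category.assoc, Category.assoc, AffineSpace.SpecIso_inv_over, ← Spec.map_comp, h1]
    unfold φ
    rw [Spec.map_comp, Scheme.isoSpec_hom_naturality_assoc, ← Scheme.isoSpec_Spec_inv, Iso.hom_inv_id,
      Category.comp_id]
  haveI := ProjProper.Basic.isProper_toSpec N k
  haveI : LocallyOfFiniteType (CohB1.ProjSpace.toSpec N k) := inferInstance
  let f : U ⟶ CohB1.ProjSpace N k := i ≫ c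
  haveI : IsImmersion f := inferInstanceAs (IsImmersion (i ≫ c))
  haveI : IsLocallyNoetherian (CohB1.ProjSpace N k) :=
    LocallyOfFiniteType.isLocallyNoetherian (CohB1.ProjSpace.toSpec N k)
  haveI : QuasiCompact f := inferInstance
  haveI : IsSeparated f := inferInstance
  haveI : LocallyQuasiFinite f := inferInstance
  haveI : IsFinite f.fromNormalization := by
    refine S9675.result f fun V => ?_
    letI : Algebra k Γ(CohB1.ProjSpace N k, V) :=
      ((Scheme.ΓSpecIso (CommRingCat.of k)).inv ≫
        (CohB1.ProjSpace.toSpec N k).appLE ⊤ V le_top).hom.toAlgebra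
    haveI : Algebra.FiniteType k Γ(CohB1.ProjSpace N k, V) := by
      show RingHom.FiniteType _
      rw [CommRingCat.hom_comp]
      exact ((CohB1.ProjSpace.toSpec N k).finiteType_appLE (isAffineOpen_top _) V.2 le_top).comp
        (RingHom.FiniteType.of_surjective _ (Scheme.ΓSpecIso
          (CommRingCat.of k)).symm.commRingCatIsoToRingEquiv.surjective)
    exact S0566.result k (BCPoint.isNagata_field k) _
  haveI : IsProper f.fromNormalization := inferInstance
  haveI : IsProper (f.fromNormalization ≫ CohB1.ProjSpace.toSpec N k) := inferInstance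
  haveI : IsIntegral f.normalization := inferInstance
  have hn : Pi1.IsNormalScheme f.normalization := fun y => by
    have hfin : LocallyFinite (fun Z : ↥(irreducibleComponents U) => (Z : Set U)) := by
      rw [irreducibleComponents_eq_singleton]
      exact locallyFinite_of_finite _
    have hη : closure {genericPoint U} ∈ irreducibleComponents U := by
      rw [irreducibleComponents_eq_singleton, genericPoint_closure]
      rfl
    refine (NormNormal.normal_and_eq f hU hfin hη y ?_).1
    exact ((genericPoint_spec U).image f.toNormalization.continuous).specializes (by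
      rw [Set.image_univ, f.toNormalization.denseRange.closure_range]; trivial)
  -- the boundary
  let W : (CohB1.ProjSpace N k).Opens := c.opensRange
  let e : U ⟶ W := i ≫ c.isoOpensRange.hom
  have he : e ≫ W.ι = f.toNormalization ≫ f.fromNormalization := by
    rw [f.toNormalization_fromNormalization]
    simp [e, W, f]
  haveI : UniversallyClosed e := inferInstance
  have hpre := preimage_eq_range f.toNormalization f.fromNormalization W e he
  let L₀ : (CohB1.ProjSpace N k).Modules := Twist.twistProjSpace N k 1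
  have hL₀ : CohB1.IsAmple L₀ := by
    haveI := Props.AmpleTwist.compactSpace N k
    exact Props.AmpleTwist.isAmple_twist (𝒜 := CohB1.polyGrading N k) (D := 1) Nat.one_pos
      (fun i : ULift.{u} (Fin (N + 1)) => Props.AmpleTwist.X_pow_mem N k 1 i.down)
      (Props.AmpleTwist.iSup_basicOpen_X_pow N k Nat.one_pos)
  obtain ⟨s₀, hs₀⟩ := Props.AmpleTwist.exists_section (𝒜 := CohB1.polyGrading N k) (D := 1)
    (fun i : ULift.{u} (Fin (N + 1)) => Props.AmpleTwist.X_pow_mem N k 1 i.down)
    (Props.AmpleTwist.iSup_basicOpen_X_pow N k Nat.one_pos) (WDivLib.X0_mem N k)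
  obtain ⟨s, hs, -⟩ := Props.GenPull.exists_pull f.fromNormalization
    (L := L₀) hL₀.1 (K := 1) s₀
  have hgl : ((CohB1.genLocus _ s : f.normalization.Opens) : Set f.normalization) =
      Set.range f.toNormalization.base := by
    rw [hs, ← hpre]
    ext x
    show f.fromNormalization.base x ∈ CohB1.genLocus _ s₀ ↔ f.fromNormalization.base x ∈ W
    rw [hs₀]
    generalize f.fromNormalization.base x = y
    exact (WDivLib.mem_range_projChart_iff N k y).symm
  have hA : CohB1.IsAmple ((Scheme.Modules.pullback f.fromNormalization).obj L₀) :=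
    AmpleLib.isAmple_pullback_of_qaMor f.fromNormalization
      ⟨inferInstance, fun V hV => by
        haveI : IsAffine (f.fromNormalization ⁻¹ᵁ V : Scheme.{u}) := hV.preimage _
        infer_instance⟩ hL₀
  haveI := hA.2.1
  have hA1 := (AmpleLib.isAmple_tensorPow_iff hA.1 Nat.one_pos).2 hA
  have hd : IsDominant f.toNormalization := inferInstance
  refine ⟨f.normalization, f.fromNormalization ≫ CohB1.ProjSpace.toSpec N k, f.toNormalization,
    _, s, inferInstance, inferInstance, hd, ?_, inferInstance, hn, hA1, ?_, ?_⟩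
  · rw [f.toNormalization_fromNormalization_assoc]; exact (Category.assoc _ _ _).trans hif
  · refine mono_of_genLocus hA1.1 s (x₀ := f.toNormalization.base (genericPoint U)) ?_
    rw [← SetLike.mem_coe, hgl]
    exact Set.mem_range_self _
  · rw [support_zeroScheme hA1.1 s, hgl]

end Groth.Agent.AffCompl47

end
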